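import Cfsg.Agent.Lib.CosetTable.Y555A322.RowsOK
import Cfsg.Agent.Lib.CosetTable.Y555A322.FixOK1

/-! Generated certificate data for the coset table `Y555A322`. -/

namespace Cfsg.Agent.Lib.CosetTable.Y555A322

open Cfsg.Agent.Lib.CosetTable

theorem fix_ok : Below (tab.fixOK cert.rels) 728 :=
  ((((((Below.zero _).step (b := 128) fix_ok_run1 rfl).step (b := 256) fix_ok_run2 rfl).step (b := 384) fix_ok_run3 rfl).step (b := 512) fix_ok_run4 rfl).step (b := 640) fix_ok_run5 rfl).step (b := 728) fix_ok_run6 rfl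

end Cfsg.Agent.Lib.CosetTable.Y555A322
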