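import Cfsg.Agent.Lib.CosetTable.Sound
import Cfsg.Agent.Lib.CosetTable.Y555A322.Data

/-! Generated certificate data for the coset table `Y555A322`. -/

namespace Cfsg.Agent.Lib.CosetTable.Y555A322

open Cfsg.Agent.Lib.CosetTable

set_option Elab.async false
set_option maxRecDepth 10000

theorem rows_ok_run1 : rangeAll (tab.rowOK cert 48952) 512 0 = true := by decide +kernel

theorem rows_ok_run2 : rangeAll (tab.rowOK cert 48952) 216 512 = true := by decide +kernel

theorem rows_ok : Below (tab.rowOK cert 48952) 728 :=
  ((Below.zero _).step (b := 512) rows_ok_run1 rfl).step (b := 728) rows_ok_run2 rfl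

end Cfsg.Agent.Lib.CosetTable.Y555A322
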